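import Mathlib
import Groth.Agent.CommAlg4.AffineSpaceDiv

/-!
# Divisors of rational functions on a polynomial ring over a domain regular in codimension one
-/

set_option autoImplicit false
set_option linter.all false
set_option backward.isDefEq.respectTransparency.types false

universe u

open AlgebraicGeometry CategoryTheory TopologicalSpace

namespace Groth.Agent.WDivPn5

open Groth.Agent.CommAlg4.AffineSpaceDiv

variable (R : CommRingCat.{u}) [IsDomain R] [IsNoetherianRing R]

/-- The function on `Spec R` given by an element of `R`. -/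
noncomputable abbrev phi : R →+* (Spec R).functionField := algebraMap R (Spec R).functionField

theorem phi_injective : Function.Injective (phi R) := IsFractionRing.injective R (Spec R).functionField

theorem phi_ne_zero {r : R} (h : r ≠ 0) : phi R r ≠ 0 := (map_ne_zero_iff _ (phi_injective R)).2 h

theorem phi_eq_stalk (w : Spec R) (r : R) :
    letI : Algebra R ((Spec R).presheaf.stalk w) := StructureSheaf.stalkAlgebra R w
    phi R r = algebraMap ((Spec R).presheaf.stalk w) (Spec R).functionField (algebraMap R ((Spec R).presheaf.stalk w) r) := by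
  symm
  show ((Spec R).presheaf.stalkSpecializes (genericPoint_specializes w)).hom ((StructureSheaf.toStalk R w).hom r) =
    (StructureSheaf.toStalk R (genericPoint (Spec R))).hom r
  exact DFunLike.congr_fun (congrArg CommRingCat.Hom.hom
    (StructureSheaf.toStalk_stalkSpecializes (R := R) (genericPoint_specializes w))) r

theorem ord_phi_of_notMem (w : Spec R) {r : R} (h : r ∉ w.asIdeal) : Scheme.ord (phi R r) w = 0 := by
  have hr : r ≠ 0 := fun e => h (e ▸ zero_mem _)
  by_cases hw : Order.coheight w = 1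
  swap
  · exact Scheme.ord_eq_zero_of_coheight_neq_one hw _
  letI : Algebra R ((Spec R).presheaf.stalk w) := StructureSheaf.stalkAlgebra R w
  haveI : IsLocalization.AtPrime ((Spec R).presheaf.stalk w) w.asIdeal := StructureSheaf.IsLocalization.to_stalk R w
  haveI : Ring.KrullDimLE 1 ((Spec R).presheaf.stalk w) := krullDimLE_of_coheight_le hw.le
  rw [Scheme.ord_eq_iff hw (phi_ne_zero R hr), phi_eq_stalk R w r]
  exact Ring.ordFrac_of_isUnit (IsLocalization.map_units ((Spec R).presheaf.stalk w)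
    (⟨r, h⟩ : w.asIdeal.primeCompl))

theorem ord_phi_eq_one (w : Spec R) (hw : Order.coheight w = 1) {e : R} (he0 : e ≠ 0) (he : e ∈ w.asIdeal)
    (hdvd : ∀ a ∈ w.asIdeal, ∃ c ∉ w.asIdeal, e ∣ c * a) : Scheme.ord (phi R e) w = 1 := by
  letI : Algebra R ((Spec R).presheaf.stalk w) := StructureSheaf.stalkAlgebra R w
  haveI : IsLocalization.AtPrime ((Spec R).presheaf.stalk w) w.asIdeal := StructureSheaf.IsLocalization.to_stalk R w
  haveI : Ring.KrullDimLE 1 ((Spec R).presheaf.stalk w) := krullDimLE_of_coheight_le hw.le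
  have hmax : IsLocalRing.maximalIdeal ((Spec R).presheaf.stalk w) = Ideal.span {algebraMap R ((Spec R).presheaf.stalk w) e} := by
    rw [← IsLocalization.AtPrime.map_eq_maximalIdeal w.asIdeal ((Spec R).presheaf.stalk w)]
    apply le_antisymm
    · refine Ideal.map_le_iff_le_comap.2 fun z hz => ?_
      obtain ⟨c, hc, t, ht⟩ := hdvd z hz
      rw [Ideal.mem_comap, Ideal.mem_span_singleton]
      have hu : IsUnit (algebraMap R ((Spec R).presheaf.stalk w) c) :=
        IsLocalization.map_units ((Spec R).presheaf.stalk w) (⟨c, hc⟩ : w.asIdeal.primeCompl)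
      refine (IsUnit.dvd_mul_left hu).1 ⟨algebraMap R _ t, ?_⟩
      rw [← map_mul, ht, map_mul]
    · rw [Ideal.span_singleton_le_iff_mem]
      exact Ideal.mem_map_of_mem _ he
  have hord1 : Ring.ord ((Spec R).presheaf.stalk w) (algebraMap R ((Spec R).presheaf.stalk w) e) = 1 := by
    rw [Ring.ord, Module.length_eq_one_iff, ← hmax]
    exact isSimpleModule_iff_isCoatom.2 (Ideal.isMaximal_def.1 (IsLocalRing.maximalIdeal.isMaximal _))
  have ha0 : algebraMap R ((Spec R).presheaf.stalk w) e ≠ 0 := fun h => phi_ne_zero R he0 (by rw [phi_eq_stalk R w, h, map_zero])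
  rw [Scheme.ord_eq_iff hw (phi_ne_zero R he0), phi_eq_stalk R w e]
  show Ring.ordFrac ((Spec R).presheaf.stalk w) _ = _
  rw [Ring.ordFrac_eq_ord _ ha0, Ring.ordMonoidWithZeroHom_eq_coe _ (mem_nonZeroDivisors_of_ne_zero ha0) (n := 1) (by exact_mod_cast hord1)]
  rfl

theorem ord_phi_eq_of_eq (w : Spec R) {e r c t : R} {k : ℕ} (he : Scheme.ord (phi R e) w = 1)
    (hr : r ≠ 0) (he0 : e ≠ 0) (hc : c ∉ w.asIdeal) (ht : t ∉ w.asIdeal) (h : c * r = e ^ k * t) :
    Scheme.ord (phi R r) w = k := by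
  have hc0 : c ≠ 0 := fun e' => hc (e' ▸ zero_mem _)
  have ht0 : t ≠ 0 := fun e' => ht (e' ▸ zero_mem _)
  have h' := congrArg (fun z => Scheme.ord (phi R z) w) h
  simp only [map_mul, map_pow] at h'
  rw [Scheme.ord_mul (phi_ne_zero R hc0) (phi_ne_zero R hr),
    Scheme.ord_mul (pow_ne_zero _ (phi_ne_zero R he0)) (phi_ne_zero R ht0), ord_phi_of_notMem R w hc,
    ord_phi_of_notMem R w ht, ← zpow_natCast, ord_zpow w (phi_ne_zero R he0), he] at h'
  linarith

/-- At a point with a discrete valuation ring as local ring there is a uniformizer in the ring. -/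
theorem exists_uniformizer (x : Spec R) [IsDiscreteValuationRing ((Spec R).presheaf.stalk x)] :
    ∃ p : R, p ≠ 0 ∧ p ∈ x.asIdeal ∧
      ∀ a : R, a ≠ 0 → ∃ (k : ℕ) (c t : R), c ∉ x.asIdeal ∧ t ∉ x.asIdeal ∧ c * a = p ^ k * t := by
  letI : Algebra R ((Spec R).presheaf.stalk x) := StructureSheaf.stalkAlgebra R x
  haveI : IsLocalization.AtPrime ((Spec R).presheaf.stalk x) x.asIdeal := StructureSheaf.IsLocalization.to_stalk R x
  obtain ⟨ϖ, hϖ⟩ := IsDiscreteValuationRing.exists_irreducible ((Spec R).presheaf.stalk x)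
  obtain ⟨⟨p, s⟩, hps⟩ := IsLocalization.surj x.asIdeal.primeCompl ϖ
  dsimp only at hps
  have hs : IsUnit (algebraMap R ((Spec R).presheaf.stalk x) s.1) := IsLocalization.map_units ((Spec R).presheaf.stalk x) s
  have hinj : Function.Injective (algebraMap R ((Spec R).presheaf.stalk x)) :=
    IsLocalization.injective ((Spec R).presheaf.stalk x) x.asIdeal.primeCompl_le_nonZeroDivisors
  have hp : Irreducible (algebraMap R ((Spec R).presheaf.stalk x) p) := by
    rw [← hps]
    exact (irreducible_mul_isUnit hs).2 hϖ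
  refine ⟨p, fun h => hp.ne_zero (by rw [h, map_zero]), ?_, fun a ha => ?_⟩
  · by_contra h
    exact hp.not_isUnit (IsLocalization.map_units ((Spec R).presheaf.stalk x) (⟨p, h⟩ : x.asIdeal.primeCompl))
  obtain ⟨k, u, hu⟩ := IsDiscreteValuationRing.eq_unit_mul_pow_irreducible
    (show algebraMap R ((Spec R).presheaf.stalk x) a ≠ 0 from (map_ne_zero_iff _ hinj).2 ha) hp
  obtain ⟨⟨t, c⟩, htc⟩ := IsLocalization.surj x.asIdeal.primeCompl (u : ((Spec R).presheaf.stalk x))
  dsimp only at htc
  refine ⟨k, c.1, t, c.2, fun htm => ?_, hinj ?_⟩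
  · have : IsUnit (algebraMap R ((Spec R).presheaf.stalk x) t) := by rw [← htc]; exact u.isUnit.mul (IsLocalization.map_units ((Spec R).presheaf.stalk x) c)
    exact (IsLocalRing.notMem_maximalIdeal.2 this) (by
      rw [← IsLocalization.AtPrime.map_eq_maximalIdeal x.asIdeal ((Spec R).presheaf.stalk x)]
      exact Ideal.mem_map_of_mem _ htm)
  · rw [map_mul, map_mul, map_pow, hu, ← htc]
    ring

section Poly

variable {A : Type u} [CommRing A] [IsDomain A] [IsNoetherianRing A] {n : ℕ}

/-- The points over `⊥` of affine space. -/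
def horizontal (A : Type u) [CommRing A] (n : ℕ) :
    Set ↥(Spec (CommRingCat.of (MvPolynomial (Fin n) A))) :=
  {w | w.asIdeal.comap (MvPolynomial.C : A →+* MvPolynomial (Fin n) A) = ⊥}

theorem exists_phi_div (R : CommRingCat.{u}) [IsDomain R] [IsNoetherianRing R] (g : (Spec R).functionField) :
    ∃ r s : R, s ≠ 0 ∧ phi R r / phi R s = g := by
  obtain ⟨r, s, hs, h⟩ := IsFractionRing.div_surjective R g
  exact ⟨r, s, nonZeroDivisors.ne_zero hs, h⟩

/-- A rational function of order zero along all horizontal divisors of affine space is a constant. -/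
theorem exists_const_of_ord_horizontal_eq_zero
    (g : (Spec (CommRingCat.of (MvPolynomial (Fin n) A))).functionField) (hg : g ≠ 0)
    (h : ∀ w ∈ horizontal A n, Order.coheight w = 1 → Scheme.ord g w = 0) :
    ∃ a b : A, a ≠ 0 ∧ b ≠ 0 ∧
      g * phi (CommRingCat.of (MvPolynomial (Fin n) A)) (MvPolynomial.C b) =
        phi (CommRingCat.of (MvPolynomial (Fin n) A)) (MvPolynomial.C a) := by
  let P := MvPolynomial (Fin n) A
  let R := CommRingCat.of P
  obtain ⟨r, s, hs0, hgeq⟩ := exists_phi_div (CommRingCat.of (MvPolynomial (Fin n) A)) g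
  have hr0 : r ≠ 0 := by rintro rfl; rw [map_zero, zero_div] at hgeq; exact hg hgeq.symm
  let K := FractionRing A
  let L := MvPolynomial (Fin n) K
  let M : Submonoid P := (nonZeroDivisors A).map (MvPolynomial.C (σ := Fin n))
  letI : Algebra P L := (MvPolynomial.map (algebraMap A K)).toAlgebra
  haveI : IsLocalization M L := MvPolynomial.isLocalization (nonZeroDivisors A) K
  have hinj : Function.Injective (algebraMap P L) :=
    MvPolynomial.map_injective _ (IsFractionRing.injective A K)
  have hι0 : ∀ {z : P}, z ≠ 0 → algebraMap P L z ≠ 0 := fun hz => (map_ne_zero_iff _ hinj).2 hz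
  have key : ∀ π : L, Prime π →
      emultiplicity π (algebraMap P L r) = emultiplicity π (algebraMap P L s) := by
    intro π hπ
    haveI hQ : (Ideal.span {π}).IsPrime := (Ideal.span_singleton_prime hπ.ne_zero).2 hπ
    let W : Ideal P := (Ideal.span {π}).comap (algebraMap P L)
    haveI : W.IsPrime := Ideal.comap_isPrime _ _
    have hmem : ∀ {z : P}, z ∈ W ↔ π ∣ algebraMap P L z := fun {z} => by
      rw [Ideal.mem_comap, Ideal.mem_span_singleton]
    have hM : ∀ m ∈ M, m ∉ W := fun m hm hmW => hπ.not_isUnit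
      (isUnit_of_dvd_unit (hmem.1 hmW) (IsLocalization.map_units L (⟨m, hm⟩ : M)))
    have hWmap : W.map (algebraMap P L) = Ideal.span {π} := IsLocalization.map_comap M L _
    have hWh : W.height = 1 := by
      rw [← IsLocalization.height_map_of_disjoint (S := L) M W (Set.disjoint_left.2 hM), hWmap]
      refine le_antisymm ?_ (ENat.one_le_iff_ne_zero.2 fun h0 => hπ.ne_zero ?_)
      · exact Ideal.height_le_one_of_isPrincipal_of_mem_minimalPrimes (Ideal.span {π}) _
          (by rw [Ideal.minimalPrimes_eq_subsingleton_self]; rfl)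
      · exact Ideal.span_singleton_eq_bot.1 (Ideal.height_eq_zero_iff_eq_bot.1 h0)
    let w : Spec R := ⟨W, inferInstance⟩
    have hw : Order.coheight w = 1 := (idealHeight_eq_coheight R w).symm.trans hWh
    have hwH : w ∈ horizontal A n := eq_bot_iff.2 fun a ha => by
      by_contra ha0
      exact hM _ ⟨a, mem_nonZeroDivisors_of_ne_zero ha0, rfl⟩ ha
    obtain ⟨⟨e, m⟩, hem⟩ := IsLocalization.surj M π
    dsimp only at hem
    have hum : IsUnit (algebraMap P L m.1) := IsLocalization.map_units L m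
    have he0 : e ≠ 0 := fun h0 => (hπ.ne_zero) (hum.mul_left_eq_zero.1 (by rw [hem, h0, map_zero]))
    have heW : e ∈ W := hmem.2 ⟨algebraMap P L m.1, hem.symm⟩
    have he : Scheme.ord (phi R e) w = 1 := by
      refine ord_phi_eq_one R w hw he0 heW fun a ha => ?_
      obtain ⟨z, hz⟩ := hmem.1 ha
      obtain ⟨⟨t, c⟩, htc⟩ := IsLocalization.surj M z
      dsimp only at htc
      refine ⟨c.1 * m.1, fun hh => ?_, ⟨t, hinj ?_⟩⟩
      · exact (‹W.IsPrime›.mem_or_mem hh).elim (hM _ c.2) (hM _ m.2)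
      · show algebraMap P L (c.1 * m.1 * a) = algebraMap P L (e * t)
        rw [map_mul, map_mul, map_mul, hz, ← htc, ← hem]
        ring
    have step : ∀ z : P, z ≠ 0 → ∃ k : ℕ, emultiplicity π (algebraMap P L z) = k ∧
        Scheme.ord (phi R z) w = k := by
      intro z hz
      obtain ⟨k, y, hy, hzy⟩ := WfDvdMonoid.max_power_factor (hι0 hz) hπ.irreducible
      refine ⟨k, emultiplicity_eq_coe.2 ⟨⟨y, hzy⟩, fun hd => hy ?_⟩, ?_⟩
      · rw [hzy, pow_succ, mul_dvd_mul_iff_left (pow_ne_zero k hπ.ne_zero)] at hd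
        exact hd
      · obtain ⟨⟨t, c⟩, htc⟩ := IsLocalization.surj M y
        dsimp only at htc
        refine ord_phi_eq_of_eq R w (c := m.1 ^ k * c.1) (t := t) he hz he0 ?_ ?_ (hinj ?_)
        · intro hh
          exact (‹W.IsPrime›.mem_or_mem hh).elim
            (fun h1 => hM _ m.2 (‹W.IsPrime›.mem_of_pow_mem k h1)) (hM _ c.2)
        · intro hh
          apply hy
          have h1 := hmem.1 hh
          rw [← htc] at h1
          exact (IsLocalization.map_units L c).dvd_mul_right.1 h1
        · show algebraMap P L (m.1 ^ k * c.1 * z) = algebraMap P L (e ^ k * t)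
          rw [map_mul, map_mul, map_mul, map_pow, map_pow, hzy, ← htc, ← hem, mul_pow]
          ring
    obtain ⟨kr, hkr, hor⟩ := step r hr0
    obtain ⟨ks, hks, hos⟩ := step s hs0
    have hord := h w hwH hw
    have hmul : g * phi R s = phi R r := by
      rw [← hgeq]; exact div_mul_cancel₀ _ (phi_ne_zero R hs0)
    have h2 := congrArg (fun z => Scheme.ord z w) hmul
    rw [Scheme.ord_mul hg (phi_ne_zero R hs0), hord, zero_add, hor, hos] at h2
    rw [hkr, hks, Nat.cast_inj.1 h2]
  have h1 : algebraMap P L r ∣ algebraMap P L s :=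
    (UniqueFactorizationMonoid.dvd_iff_emultiplicity_le (hι0 hr0)).2 fun π hπ => (key π hπ).le
  have h2 : algebraMap P L s ∣ algebraMap P L r :=
    (UniqueFactorizationMonoid.dvd_iff_emultiplicity_le (hι0 hs0)).2 fun π hπ => (key π hπ).ge
  obtain ⟨v, hv⟩ := associated_of_dvd_dvd h2 h1
  obtain ⟨c, hc, hvc⟩ := MvPolynomial.isUnit_iff_eq_C_of_isReduced.1 v.isUnit
  obtain ⟨a, b, hb, rfl⟩ := IsFractionRing.div_surjective A c
  have hb0 : b ≠ 0 := nonZeroDivisors.ne_zero hb
  have hbK : algebraMap A K b ≠ 0 := (map_ne_zero_iff _ (IsFractionRing.injective A K)).2 hb0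
  have ha0 : a ≠ 0 := by rintro rfl; simp at hc
  refine ⟨a, b, ha0, hb0, ?_⟩
  have heq : r * MvPolynomial.C b = s * MvPolynomial.C a := by
    apply hinj
    rw [map_mul, map_mul, ← hv, hvc, mul_assoc]
    congr 1
    show MvPolynomial.C _ * MvPolynomial.map (algebraMap A K) (MvPolynomial.C b) =
      MvPolynomial.map (algebraMap A K) (MvPolynomial.C a)
    rw [MvPolynomial.map_C, MvPolynomial.map_C, ← map_mul, div_mul_cancel₀ _ hbK]
  have h3 := congrArg (phi R) heq
  rw [map_mul, map_mul] at h3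
  rw [← hgeq]
  show phi R r / phi R s * _ = _
  rw [div_mul_eq_mul_div, h3, mul_div_cancel_left₀ _ (phi_ne_zero R hs0)]

/-- The extension of a point of coheight one of the base. -/
theorem exists_vertical (x : Spec (CommRingCat.of A)) (hx : Order.coheight x = 1)
    [IsDiscreteValuationRing ((Spec (CommRingCat.of A)).presheaf.stalk x)] :
    ∃ w : Spec (CommRingCat.of (MvPolynomial (Fin n) A)), Order.coheight w = 1 ∧
      w.asIdeal.comap (MvPolynomial.C : A →+* MvPolynomial (Fin n) A) = x.asIdeal ∧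
      ∀ a : A, a ≠ 0 → Scheme.ord (phi (CommRingCat.of (MvPolynomial (Fin n) A)) (MvPolynomial.C a)) w =
        Scheme.ord (phi (CommRingCat.of A) a) x := by
  let P := MvPolynomial (Fin n) A
  obtain ⟨p, hp0, hpx, hp⟩ := exists_uniformizer (CommRingCat.of A) x
  haveI : x.asIdeal.IsPrime := x.isPrime
  let W : Ideal P := x.asIdeal.map MvPolynomial.C
  haveI hWp : W.IsPrime := by
    have hk : RingHom.ker (MvPolynomial.map (σ := Fin n) (Ideal.Quotient.mk x.asIdeal)) = W := by
      rw [MvPolynomial.ker_map, Ideal.mk_ker]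
    rw [← hk]
    exact RingHom.ker_isPrime _
  have hcomap : ∀ a : A, MvPolynomial.C a ∈ W ↔ a ∈ x.asIdeal := fun a => by
    classical
    rw [MvPolynomial.mem_map_C_iff]
    exact ⟨fun h => by simpa using h 0, fun h m => by
      rw [MvPolynomial.coeff_C]; split_ifs; exacts [h, zero_mem _]⟩
  have hpA : ∀ a ∈ x.asIdeal, ∃ c ∉ x.asIdeal, p ∣ c * a := by
    intro a ha
    rcases eq_or_ne a 0 with rfl | ha0
    · exact ⟨1, x.isPrime.one_notMem, by simp⟩
    obtain ⟨k, c, t, hc, ht, he⟩ := hp a ha0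
    rcases k with _ | k
    · rw [pow_zero, one_mul] at he
      exact absurd (he ▸ x.asIdeal.mul_mem_left c ha) ht
    · exact ⟨c, hc, p ^ k * t, by rw [he, pow_succ]; ring⟩
  have hWdvd : ∀ f ∈ W, ∃ c : A, c ∉ x.asIdeal ∧ (MvPolynomial.C p : P) ∣ MvPolynomial.C c * f := by
    intro f hf
    induction hf using Submodule.span_induction with
    | mem f hf =>
      obtain ⟨a, ha, rfl⟩ := hf
      obtain ⟨c, hc, hd⟩ := hpA a ha
      exact ⟨c, hc, by rw [← map_mul]; exact map_dvd MvPolynomial.C hd⟩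
    | zero => exact ⟨1, x.isPrime.one_notMem, by simp⟩
    | add f g _ _ h1 h2 =>
      obtain ⟨c, hc, hd⟩ := h1
      obtain ⟨c', hc', hd'⟩ := h2
      refine ⟨c * c', fun hh => (x.isPrime.mem_or_mem hh).elim hc hc', ?_⟩
      rw [map_mul, mul_add]
      exact dvd_add (by rw [mul_comm (MvPolynomial.C c), mul_assoc]; exact dvd_mul_of_dvd_right hd _)
        (by rw [mul_assoc]; exact dvd_mul_of_dvd_right hd' _)
    | smul q f _ h1 =>
      obtain ⟨c, hc, hd⟩ := h1
      refine ⟨c, hc, ?_⟩
      rw [smul_eq_mul, ← mul_assoc, mul_comm (MvPolynomial.C c) q, mul_assoc]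
      exact dvd_mul_of_dvd_right hd _
  have hpW : (MvPolynomial.C p : P) ∈ W := (hcomap p).2 hpx
  have hWh : W.height = 1 := by
    refine le_antisymm ?_ (ENat.one_le_iff_ne_zero.2 fun h0 => ?_)
    · refine Ideal.height_le_one_of_isPrincipal_of_mem_minimalPrimes (Ideal.span {MvPolynomial.C p}) W
        ⟨⟨hWp, (Ideal.span_singleton_le_iff_mem _).2 hpW⟩, fun Q hQ hQW f hf => ?_⟩
      obtain ⟨c, hc, hd⟩ := hWdvd f hf
      have h1 : MvPolynomial.C c * f ∈ Q := hQ.2 (Ideal.mem_span_singleton.2 hd)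
      exact (hQ.1.mem_or_mem h1).resolve_left fun h2 => hc ((hcomap c).1 (hQW h2))
    · rw [Ideal.height_eq_zero_iff_eq_bot.1 h0, Ideal.mem_bot, MvPolynomial.C_eq_zero] at hpW
      exact hp0 hpW
  let w : Spec (CommRingCat.of P) := ⟨W, hWp⟩
  have hw : Order.coheight w = 1 := (idealHeight_eq_coheight _ w).symm.trans hWh
  have hCp : (MvPolynomial.C p : P) ≠ 0 := fun h => hp0 (MvPolynomial.C_eq_zero.1 h)
  refine ⟨w, hw, Ideal.ext fun a => hcomap a, fun a ha => ?_⟩
  have he : Scheme.ord (phi (CommRingCat.of P) (MvPolynomial.C p)) w = 1 := by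
    refine ord_phi_eq_one _ w hw hCp hpW fun f hf => ?_
    obtain ⟨c, hc, hd⟩ := hWdvd f hf
    exact ⟨MvPolynomial.C c, fun h => hc ((hcomap c).1 h), hd⟩
  obtain ⟨k, c, t, hc, ht, hct⟩ := hp a ha
  rw [ord_phi_eq_of_eq (CommRingCat.of A) x (ord_phi_eq_one _ x hx hp0 hpx hpA) ha hp0 hc ht hct]
  exact ord_phi_eq_of_eq (CommRingCat.of P) w he (fun h => ha (MvPolynomial.C_eq_zero.1 h)) hCp
    (fun h => hc ((hcomap c).1 h)) (fun h => ht ((hcomap t).1 h))
    (by rw [← map_mul, hct, map_mul, map_pow])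

/-- Every divisor on affine space is principal along the horizontal divisors. -/
theorem exists_ord_eq_horizontal
    (D : ↥(Spec (CommRingCat.of (MvPolynomial (Fin n) A))) → ℤ)
    (hD : ∀ w, Order.coheight w ≠ 1 → D w = 0) (hfin : {w | D w ≠ 0}.Finite) :
    ∃ f : (Spec (CommRingCat.of (MvPolynomial (Fin n) A))).functionField, f ≠ 0 ∧
      ∀ w ∈ horizontal A n, Order.coheight w = 1 → Scheme.ord f w = D w := by
  refine exists_ord_eq_on _ _ (fun x hxH hx => ?_) D hD hfin
  haveI : x.asIdeal.IsPrime := x.isPrime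
  let K := FractionRing A
  let L := MvPolynomial (Fin n) K
  let M : Submonoid (MvPolynomial (Fin n) A) := (nonZeroDivisors A).map (MvPolynomial.C (σ := Fin n))
  letI : Algebra (MvPolynomial (Fin n) A) L := (MvPolynomial.map (algebraMap A K)).toAlgebra
  haveI : IsLocalization M L := MvPolynomial.isLocalization (nonZeroDivisors A) K
  have hinj : Function.Injective (algebraMap (MvPolynomial (Fin n) A) L) :=
    MvPolynomial.map_injective _ (IsFractionRing.injective A K)
  have hdisj : ∀ Q : Ideal (MvPolynomial (Fin n) A),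
      Q.comap (MvPolynomial.C : A →+* MvPolynomial (Fin n) A) = ⊥ → ∀ m ∈ M, m ∉ Q := by
    rintro Q hQ _ ⟨a, ha, rfl⟩ hmem
    have h0 : a ∈ Q.comap (MvPolynomial.C : A →+* MvPolynomial (Fin n) A) := hmem
    rw [hQ] at h0
    exact nonZeroDivisors.ne_zero ha h0
  have hxh : x.asIdeal.height = 1 := (idealHeight_eq_coheight _ x).trans hx
  let Q := x.asIdeal.map (algebraMap (MvPolynomial (Fin n) A) L)
  have hd := Set.disjoint_left.2 (hdisj _ hxH)
  haveI : Q.IsPrime := IsLocalization.isPrime_of_isPrime_disjoint M L x.asIdeal inferInstance hd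
  have hQh : Q.height = 1 := by rw [IsLocalization.height_map_of_disjoint M x.asIdeal hd, hxh]
  obtain ⟨s, hs⟩ := (UniqueFactorizationMonoid.isPrincipal_of_height_eq_one (p := Q) hQh).principal
  have hsQ : s ∈ Q := hs.symm ▸ Submodule.mem_span_singleton_self s
  obtain ⟨⟨⟨e, he⟩, m⟩, hem⟩ := (IsLocalization.mem_map_algebraMap_iff M L).1 hsQ
  dsimp only at hem
  have hum : IsUnit (algebraMap _ L m.1) := IsLocalization.map_units L m
  have hQ' : Q = Ideal.span {algebraMap _ L e} := by
    rw [← hem, Ideal.span_singleton_mul_right_unit hum]; exact hs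
  have he0 : e ≠ 0 := by
    rintro rfl
    rw [map_zero, Ideal.span_singleton_eq_bot.2 rfl] at hQ'
    rw [hQ', Ideal.height_bot] at hQh
    exact zero_ne_one hQh
  refine ⟨e, he0, he, fun y hyH hy hmem => PrimeSpectrum.ext ?_, fun a ha => ?_⟩
  · haveI : y.asIdeal.IsPrime := y.isPrime
    have hle : x.asIdeal ≤ y.asIdeal := fun z hz => by
      have h2 : Q ≤ y.asIdeal.map (algebraMap _ L) := by
        rw [hQ', Ideal.span_singleton_le_iff_mem]; exact Ideal.mem_map_of_mem _ hmem
      have h3 := h2 (Ideal.mem_map_of_mem _ hz)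
      rwa [← Ideal.mem_comap, ← Ideal.under_def, IsLocalization.under_map_of_isPrime_disjoint M L y.isPrime (Set.disjoint_left.2 (hdisj _ hyH))] at h3
    have hyh : y.asIdeal.height = 1 := (idealHeight_eq_coheight _ y).trans hy
    by_contra hne
    haveI : Ideal.FiniteHeight y.asIdeal := ⟨Or.inr (by rw [hyh]; exact ENat.one_ne_top)⟩
    have := Ideal.height_add_one_le_of_lt_of_isPrime (lt_of_le_of_ne hle (Ne.symm hne))
    rw [hxh, hyh] at this
    exact absurd this (by norm_num)
  · have h1 : algebraMap _ L a ∈ Ideal.span {algebraMap _ L e} := hQ' ▸ Ideal.mem_map_of_mem _ ha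
    obtain ⟨t, ht⟩ := Ideal.mem_span_singleton.1 h1
    obtain ⟨⟨v, c⟩, hvc⟩ := IsLocalization.surj M t
    dsimp only at hvc
    refine ⟨c.1, hdisj _ hxH _ c.2, ⟨v, hinj ?_⟩⟩
    show algebraMap _ L (c.1 * a) = algebraMap _ L (e * v)
    rw [map_mul, map_mul, ht, ← hvc]
    ring

/-- A height one prime of a polynomial ring meeting the base is extended from a height one prime. -/
theorem eq_map_of_comap_ne_bot' (P : Ideal (MvPolynomial (Fin n) A)) [P.IsPrime] (hP : P.height = 1)
    (hne : P.comap (MvPolynomial.C : A →+* MvPolynomial (Fin n) A) ≠ ⊥) :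
    (P.comap (MvPolynomial.C : A →+* MvPolynomial (Fin n) A)).height = 1 ∧
      P = (P.comap (MvPolynomial.C : A →+* MvPolynomial (Fin n) A)).map MvPolynomial.C := by
  have hprime : ∀ q : Ideal A, q.IsPrime → (q.map (MvPolynomial.C : A →+* MvPolynomial (Fin n) A)).IsPrime := by
    intro q hq
    haveI := hq
    have hk : RingHom.ker (MvPolynomial.map (σ := Fin n) (Ideal.Quotient.mk q)) = q.map MvPolynomial.C := by
      rw [MvPolynomial.ker_map, Ideal.mk_ker]
    rw [← hk]
    exact RingHom.ker_isPrime _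
  have hP' : ∀ Q : Ideal (MvPolynomial (Fin n) A), Q.IsPrime → Q ≠ ⊥ → Q ≤ P → Q = P := by
    intro Q hQ hQ0 hle
    by_contra h
    haveI := hQ
    have h1 : Q.height + 1 ≤ P.height := Ideal.height_add_one_le_of_lt_of_isPrime (lt_of_le_of_ne hle h)
    have h2 : Q.height ≠ 0 := fun h0 => hQ0 (Ideal.height_eq_zero_iff_eq_bot.1 h0)
    rw [hP] at h1
    exact h2 (nonpos_iff_eq_zero.1 ((ENat.add_le_add_iff_right (show (1 : ℕ∞) ≠ ⊤ from ENat.one_ne_top)).1 (by simpa using h1)))
  have hmapne : ∀ q : Ideal A, q ≠ ⊥ → q.map (MvPolynomial.C : A →+* MvPolynomial (Fin n) A) ≠ ⊥ := fun q hq h =>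
    hq ((Ideal.map_eq_bot_iff_of_injective (MvPolynomial.C_injective (Fin n) A)).1 h)
  let p := P.comap (MvPolynomial.C : A →+* MvPolynomial (Fin n) A)
  haveI : p.IsPrime := Ideal.comap_isPrime _ _
  have heq : p.map MvPolynomial.C = P := hP' _ (hprime p inferInstance) (hmapne p hne) Ideal.map_comap_le
  refine ⟨le_antisymm ?_ ?_, heq.symm⟩
  · rw [show (1 : ℕ∞) = ((1 : ℕ) : ℕ∞) from rfl, Ideal.height_le_iff]
    intro q hq hlt
    haveI := hq
    suffices q = ⊥ by rw [this, Ideal.height_bot]; exact zero_lt_one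
    by_contra hq0
    have h1 := hP' _ (hprime q hq) (hmapne q hq0) ((Ideal.map_mono hlt.le).trans Ideal.map_comap_le)
    refine hlt.ne (Ideal.ext fun x => ?_)
    show x ∈ q ↔ MvPolynomial.C x ∈ P
    rw [← h1, MvPolynomial.mem_map_C_iff]
    classical
    exact ⟨fun hx m => by rw [MvPolynomial.coeff_C]; split_ifs; exacts [hx, zero_mem _], fun hx => by simpa using hx 0⟩
  · exact ENat.one_le_iff_ne_zero.2 fun h0 => hne (Ideal.height_eq_zero_iff_eq_bot.1 h0)

end Poly

end Groth.Agent.WDivPn5
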