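import Groth.Prelude.Def_CohB1
import Groth.Agent.PnCanon5.Chart
import Groth.Agent.ProjLib.ProjSpace
import Groth.Agent.CommAlg4.OrdTransfer
import Groth.Agent.WDivPn5.Ring

/-!
# The complement of a coordinate hyperplane in `P^n_A` and divisors
-/

set_option autoImplicit false
set_option linter.all false
set_option backward.isDefEq.respectTransparency.types false

universe u

open AlgebraicGeometry CategoryTheory TopologicalSpace

namespace Groth.Agent.WDivPn5

open Groth.Agent.EmbLib24

variable (A : Type u) [CommRing A] (n : ℕ)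

/-- The coordinate ring of affine space. -/
noncomputable abbrev PolyR : CommRingCat.{u} := CommRingCat.of (MvPolynomial (Fin n) A)

/-- The map `𝔸^n → Spec A`. -/
noncomputable abbrev pr : Spec (PolyR A n) ⟶ Spec (CommRingCat.of A) :=
  Spec.map (CommRingCat.ofHom (MvPolynomial.C : A →+* MvPolynomial (Fin n) A))

theorem exists_affine_chart :
    ∃ j : Spec (PolyR A n) ⟶ CohB1.ProjSpace n A, IsOpenImmersion j ∧
      j ≫ CohB1.ProjSpace.toSpec n A = pr A n ∧
      ∀ y : CohB1.ProjSpace n A, y ∈ Set.range j ↔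
        (MvPolynomial.X 0 : MvPolynomial (Fin (n + 1)) A) ∉ y.asHomogeneousIdeal.toIdeal := by
  let e := RingEquiv.ofBijective (PnCanon5.sigma n A 0) (PnCanon5.bijective_sigma n A 0)
  let i : Spec (PolyR A n) ⟶ Spec (CommRingCat.of (HomogeneousLocalization.Away (CohB1.polyGrading n A)
      (MvPolynomial.X 0 : MvPolynomial (Fin (n + 1)) A))) := Spec.map e.symm.toCommRingCatIso.hom
  let ι := Proj.awayι (CohB1.polyGrading n A) (MvPolynomial.X 0) (ProjLib.X_mem_polyGrading n A 0) one_pos
  haveI : IsIso i := inferInstanceAs (IsIso (Spec.map _))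
  refine ⟨i ≫ ι, inferInstanceAs (IsOpenImmersion (i ≫ Proj.awayι _ _ _ _)), ?_, fun y => ?_⟩
  · refine (Category.assoc _ _ _).trans ((congrArg (fun g => i ≫ g)
      (ProjLib.awayι_toSpec n A (ProjLib.X_mem_polyGrading n A 0) one_pos)).trans ?_)
    rw [← Spec.map_comp]
    congr 1
    refine CommRingCat.hom_ext (RingHom.ext fun c => ?_)
    show e.symm (ProjLib.toAway n A _ c) = MvPolynomial.C c
    rw [RingEquiv.symm_apply_eq]
    show _ = PnCanon5.sigma n A 0 (MvPolynomial.C c)
    rw [PnCanon5.sigma, MvPolynomial.eval₂Hom_C]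
    rfl
  · have h1 : Set.range (i ≫ ι) = Set.range ι := by
      have hs : Function.Surjective (i : _ → _) := (Scheme.homeoOfIso (asIso i)).surjective
      rw [Scheme.Hom.comp_base, TopCat.coe_comp, Set.range_comp, Set.range_eq_univ.2 hs, Set.image_univ]
    have h2 : Set.range ι = (Proj.basicOpen (CohB1.polyGrading n A) (MvPolynomial.X 0) : Set _) :=
      by rw [← Proj.opensRange_awayι (CohB1.polyGrading n A) (MvPolynomial.X 0) (ProjLib.X_mem_polyGrading n A 0) one_pos]; rfl
    exact Set.ext_iff.1 (h1.trans h2) y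

variable [IsDomain A]

/-- The constant rational function on a scheme over `Spec A`. -/
noncomputable def kap {Y : Scheme.{u}} [IsIntegral Y] (q : Y ⟶ Spec (CommRingCat.of A)) : A →+* Y.functionField :=
  ((Y.presheaf.germ ⊤ (genericPoint Y) trivial).hom.comp q.appTop.hom).comp
    (Scheme.ΓSpecIso (CommRingCat.of A)).inv.hom

theorem ord_kap_eq_zero {Y : Scheme.{u}} [IsIntegral Y] [IsLocallyNoetherian Y] (q : Y ⟶ Spec (CommRingCat.of A))
    {a : A} (y : Y) (ha : a ∉ (q y).asIdeal) : Scheme.ord (kap A q a) y = 0 := by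
  let U := q ⁻¹ᵁ (PrimeSpectrum.basicOpen a : (Spec (CommRingCat.of A)).Opens)
  let b := (Scheme.ΓSpecIso (CommRingCat.of A)).inv.hom a
  have hU : U = Y.basicOpen (q.appTop b) := by
    exact (congrArg (fun V => q ⁻¹ᵁ V) (basicOpen_eq_of_affine (R := CommRingCat.of A) a).symm).trans
      (Scheme.preimage_basicOpen q b)
  have hy : y ∈ Y.basicOpen (q.appTop b) := hU ▸ ha
  haveI : Nonempty (Y.basicOpen (q.appTop b)) := ⟨⟨y, hy⟩⟩
  have hu : IsUnit (Y.presheaf.map (homOfLE (Y.basicOpen_le (q.appTop b))).op (q.appTop b)) :=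
    RingedSpace.isUnit_res_basicOpen Y.toRingedSpace (q.appTop b)
  have h := Scheme.ord_of_isUnit (U := Y.basicOpen (q.appTop b)) hu (x := y) hy
  rw [Scheme.germToFunctionField, TopCat.Presheaf.germ_res_apply] at h
  exact h

/-- The map of function fields along an open immersion, on constants. -/
theorem exists_map_functionField {X Y : Scheme.{u}} [IsIntegral X] [IsIntegral Y] [IsLocallyNoetherian X]
    [IsLocallyNoetherian Y] (j : X ⟶ Y) [IsOpenImmersion j] (q : Y ⟶ Spec (CommRingCat.of A)) :
    ∃ E : Y.functionField →+* X.functionField, Function.Bijective E ∧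
      (∀ (x : X) (f : Y.functionField), Scheme.ord (E f) x = Scheme.ord f (j x)) ∧
      ∀ a, E (kap A q a) = kap A (j ≫ q) a := by
  have hg : j (genericPoint X) = genericPoint Y := genericPoint_eq_of_isOpenImmersion j
  have hs : j (genericPoint X) ⤳ genericPoint Y := hg ▸ specializes_rfl
  let E' := Y.presheaf.stalkSpecializes hs ≫ j.stalkMap (genericPoint X)
  have hiso : IsIso (Y.presheaf.stalkSpecializes hs) := by
    refine ⟨Y.presheaf.stalkSpecializes (genericPoint_specializes _), ?_, ?_⟩ <;>
      rw [TopCat.Presheaf.stalkSpecializes_comp, TopCat.Presheaf.stalkSpecializes_refl]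
  have hbij : Function.Bijective E'.hom := (asIso E').commRingCatIsoToRingEquiv.bijective
  refine ⟨E'.hom, hbij, fun x f => ?_, fun a => ?_⟩
  · by_cases hx : Order.coheight x = 1
    swap
    · rw [Scheme.ord_eq_zero_of_coheight_neq_one hx, Scheme.ord_eq_zero_of_coheight_neq_one (by rw [coheight_eq_of_isOpenImmersion j]; exact hx)]
    have hjx : Order.coheight (j x) = 1 := by rw [coheight_eq_of_isOpenImmersion j]; exact hx
    haveI : Ring.KrullDimLE 1 (X.presheaf.stalk x) := krullDimLE_of_coheight_le hx.le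
    haveI : Ring.KrullDimLE 1 (Y.presheaf.stalk (j x)) := krullDimLE_of_coheight_le hjx.le
    rw [Scheme.ord_eq_ordHom_of_coheight_eq_one hx, Scheme.ord_eq_ordHom_of_coheight_eq_one hjx]
    congr 2
    refine CommAlg4.OrdTransfer.ordFrac_ringEquiv (A := Y.presheaf.stalk (j x)) (B := X.presheaf.stalk x)
      (asIso (j.stalkMap x)).commRingCatIsoToRingEquiv E'.hom (fun a => ?_) f
    have key := Scheme.Hom.stalkSpecializes_stalkMap_apply j (genericPoint X) x (genericPoint_specializes x) a
    show E'.hom ((Y.presheaf.stalkSpecializes (genericPoint_specializes (j x))).hom a) =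
      (X.presheaf.stalkSpecializes (genericPoint_specializes x)).hom ((j.stalkMap x).hom a)
    refine Eq.trans ?_ key
    show (j.stalkMap (genericPoint X)).hom ((Y.presheaf.stalkSpecializes hs).hom ((Y.presheaf.stalkSpecializes (genericPoint_specializes (j x))).hom a)) = _
    rw [← CommRingCat.comp_apply (Y.presheaf.stalkSpecializes (genericPoint_specializes (j x))), TopCat.Presheaf.stalkSpecializes_comp]
  · let b := q.appTop ((Scheme.ΓSpecIso (CommRingCat.of A)).inv.hom a)
    show (j.stalkMap (genericPoint X)).hom ((Y.presheaf.stalkSpecializes hs).hom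
      ((Y.presheaf.germ ⊤ (genericPoint Y) trivial).hom b)) = _
    rw [← CommRingCat.comp_apply (Y.presheaf.germ ⊤ _ _), TopCat.Presheaf.germ_stalkSpecializes]
    exact Scheme.Hom.germ_stalkMap_apply j ⊤ (genericPoint X) trivial b

variable [IsNoetherianRing A]

/-- Constants on affine space. -/
theorem kap_pr (a : A) : kap A (pr A n) a = phi (PolyR A n) (MvPolynomial.C a) := by
  show ((Spec (PolyR A n)).presheaf.germ ⊤ _ trivial).hom ((pr A n).appTop
    ((Scheme.ΓSpecIso (CommRingCat.of A)).inv.hom a)) = _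
  have h : (pr A n).appTop ((Scheme.ΓSpecIso (CommRingCat.of A)).inv.hom a) =
      (Scheme.ΓSpecIso (PolyR A n)).inv.hom (MvPolynomial.C a) :=
    (DFunLike.congr_fun (congrArg CommRingCat.Hom.hom (Scheme.ΓSpecIso_inv_naturality
      (CommRingCat.ofHom (MvPolynomial.C : A →+* MvPolynomial (Fin n) A)))) a).symm
  rw [h]
  rfl

variable {A n}

theorem pr_eq_genericPoint_iff (w : Spec (PolyR A n)) :
    pr A n w = genericPoint (Spec (CommRingCat.of A)) ↔ w ∈ horizontal A n := by
  rw [genericPoint_eq_bot_of_affine]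
  exact ⟨fun h => congrArg PrimeSpectrum.asIdeal h, fun h => PrimeSpectrum.ext h⟩

/-- A point outside the chart of codimension one is the hyperplane. -/
theorem eq_hyperplane [IsIntegral (CohB1.ProjSpace n A)] {H y : ↥(CohB1.ProjSpace n A)}
    (hH : H.asHomogeneousIdeal.toIdeal = Ideal.span {(MvPolynomial.X 0 : MvPolynomial (Fin (n + 1)) A)})
    (hy : Order.coheight y = 1)
    (hy0 : (MvPolynomial.X 0 : MvPolynomial (Fin (n + 1)) A) ∈ y.asHomogeneousIdeal.toIdeal) : y = H := by
  have hle : H.asHomogeneousIdeal ≤ y.asHomogeneousIdeal := by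
    show H.asHomogeneousIdeal.toIdeal ≤ y.asHomogeneousIdeal.toIdeal
    rw [hH, Ideal.span_singleton_le_iff_mem]; exact hy0
  have hsp : H ⤳ y := by
    rw [specializes_iff_mem_closure]
    exact (ProjectiveSpectrum.le_iff_mem_closure (𝒜 := CohB1.polyGrading n A) H y).1 hle
  obtain ⟨j, hj, -, hrange⟩ := exists_affine_chart A n
  have hgen : (MvPolynomial.X 0 : MvPolynomial (Fin (n + 1)) A) ∉
      (genericPoint (CohB1.ProjSpace n A)).asHomogeneousIdeal.toIdeal :=
    (hrange _).1 ⟨_, genericPoint_eq_of_isOpenImmersion j⟩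
  by_contra hne
  have h1 : y < H := lt_of_le_not_ge (Scheme.le_iff_specializes.2 hsp) fun h =>
    hne ((hsp.antisymm (Scheme.le_iff_specializes.1 h)).eq).symm
  have h2 : H < genericPoint (CohB1.ProjSpace n A) :=
    lt_of_le_not_ge (Scheme.le_iff_specializes.2 (genericPoint_specializes H)) fun h => by
      have := ((Scheme.le_iff_specializes.1 h).antisymm (genericPoint_specializes H)).eq
      exact hgen (this ▸ (hH.symm ▸ Ideal.mem_span_singleton_self _))
  have h3 := Order.coheight_add_one_le h1
  have h4 := Order.coheight_add_one_le h2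
  rw [hy] at h3
  have h5 : (2 : ℕ∞) ≤ 1 := by
    calc (2 : ℕ∞) = 0 + 1 + 1 := by norm_num
      _ ≤ Order.coheight H + 1 := by gcongr; exact le_trans (by gcongr; exact bot_le) h4
      _ ≤ 1 := h3
  exact absurd h5 (by norm_num)

/-- The hyperplane lies over the generic point. -/
theorem toSpec_hyperplane (hn : 1 ≤ n) {H : ↥(CohB1.ProjSpace n A)}
    (hH : H.asHomogeneousIdeal.toIdeal = Ideal.span {(MvPolynomial.X 0 : MvPolynomial (Fin (n + 1)) A)}) :
    CohB1.ProjSpace.toSpec n A H = genericPoint (Spec (CommRingCat.of A)) := by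
  let i : Fin (n + 1) := ⟨1, by omega⟩
  have hi : (MvPolynomial.X i : MvPolynomial (Fin (n + 1)) A) ∉ H.asHomogeneousIdeal.toIdeal := by
    rw [hH, Ideal.mem_span_singleton]
    intro h
    have := map_dvd (MvPolynomial.eval₂Hom (RingHom.id A) fun l => if l = i then (1 : A) else 0) h
    rw [MvPolynomial.eval₂Hom_X', MvPolynomial.eval₂Hom_X', if_pos rfl,
      if_neg (show (0 : Fin (n + 1)) ≠ i from fun e => by have := congrArg Fin.val e; simp [i] at this)] at this
    exact zero_ne_one (zero_dvd_iff.1 this).symm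
  rw [genericPoint_eq_bot_of_affine]
  refine PrimeSpectrum.ext (eq_bot_iff.2 fun a ha => ?_)
  rw [Ideal.mem_bot]
  by_contra ha0
  let f : MvPolynomial (Fin (n + 1)) A := MvPolynomial.C a * MvPolynomial.X i
  have hfdeg : f ∈ CohB1.polyGrading n A 1 := by
    simpa using (MvPolynomial.isHomogeneous_C (Fin (n + 1)) a).mul (MvPolynomial.isHomogeneous_X A i)
  have hCa : (MvPolynomial.C a : MvPolynomial (Fin (n + 1)) A) ∉ H.asHomogeneousIdeal.toIdeal := by
    rw [hH, Ideal.mem_span_singleton]
    intro h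
    have := map_dvd (MvPolynomial.eval₂Hom (RingHom.id A) fun _ => (0 : A)) h
    rw [MvPolynomial.eval₂Hom_X', MvPolynomial.eval₂Hom_C, RingHom.id_apply, zero_dvd_iff] at this
    exact ha0 this
  have hHf : f ∉ H.asHomogeneousIdeal.toIdeal := fun h =>
    (H.isPrime.mem_or_mem h).elim hCa hi
  have hop : (Set.range (Proj.awayι (CohB1.polyGrading n A) f hfdeg one_pos) : Set _) =
      (Proj.basicOpen (CohB1.polyGrading n A) f : Set _) :=
    by rw [← Proj.opensRange_awayι (CohB1.polyGrading n A) f hfdeg one_pos]; rfl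
  obtain ⟨z, hz⟩ := (Set.ext_iff.1 hop H).2 hHf
  have hq : CohB1.ProjSpace.toSpec n A H = Spec.map (CommRingCat.ofHom (ProjLib.toAway n A f)) z := by
    rw [← hz, ← ProjLib.awayι_toSpec n A hfdeg one_pos]
    rfl
  have hu : IsUnit (ProjLib.toAway n A f a) := by
    refine IsUnit.of_mul_eq_one (HomogeneousLocalization.Away.mk (CohB1.polyGrading n A) hfdeg 1
      (MvPolynomial.X i) (by rw [one_smul]; exact ProjLib.X_mem_polyGrading n A i)) ?_
    apply HomogeneousLocalization.val_injective
    rw [HomogeneousLocalization.val_mul, HomogeneousLocalization.val_one, ProjLib.val_toAway,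
      HomogeneousLocalization.Away.val_mk, ← Localization.mk_one_eq_algebraMap, Localization.mk_mul, one_mul]
    have : MvPolynomial.C a * MvPolynomial.X i = f ^ 1 := (pow_one f).symm
    exact (congrArg (fun t => Localization.mk t _) this).trans (Localization.mk_self (⟨f ^ 1, 1, rfl⟩ : Submonoid.powers f))
  have hmem : ProjLib.toAway n A f a ∈ z.asIdeal := by
    rw [hq] at ha
    exact ha
  exact z.isPrime.ne_top (Ideal.eq_top_of_isUnit_mem _ hmem hu)

end Groth.Agent.WDivPn5
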