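import Groth.Agent.WDivPn5.Chart

/-!
# The divisor class group of `P^n_A`
-/

set_option autoImplicit false
set_option linter.all false
set_option backward.isDefEq.respectTransparency.types false

universe u

open AlgebraicGeometry CategoryTheory TopologicalSpace

namespace Groth.Agent.WDivPn5

open Groth.Agent.CommAlg4.AffineSpaceDiv

variable {A : Type u} [CommRing A] [IsDomain A] [IsNoetherianRing A] {n : ℕ}
  [IsIntegral (CohB1.ProjSpace n A)] [IsLocallyNoetherian (CohB1.ProjSpace n A)]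

theorem coheight_genericPoint {X : Scheme.{u}} [IsIntegral X] : Order.coheight (genericPoint X) = 0 := by
  rw [Order.coheight_eq_zero]
  intro b hb
  exact Scheme.le_iff_specializes.2 (genericPoint_specializes b)

theorem principal
    [IsIntegral (Spec (CommRingCat.of A))]
    (hR1 : ∀ x : ↥(Spec (CommRingCat.of A)), Order.coheight x = 1 →
      IsDiscreteValuationRing ↑((Spec (CommRingCat.of A)).presheaf.stalk x))
    (hn : 1 ≤ n) (H : ↥(CohB1.ProjSpace n A))
    (hH : H.asHomogeneousIdeal.toIdeal = Ideal.span {(MvPolynomial.X 0 : MvPolynomial (Fin (n + 1)) A)})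
    (d : ℤ) (D : ↥(Spec (CommRingCat.of A)) → ℤ) (hD : ∀ x, Order.coheight x ≠ 1 → D x = 0)
    (g : ↑(CohB1.ProjSpace n A).functionField) (hg : g ≠ 0)
    (hH' : Scheme.ord g H = d + D (CohB1.ProjSpace.toSpec n A H))
    (h : ∀ y, y ≠ H → Order.coheight y = 1 → Scheme.ord g y = D (CohB1.ProjSpace.toSpec n A y)) :
    d = 0 ∧ ∃ f : ↑(Spec (CommRingCat.of A)).functionField, f ≠ 0 ∧
      ∀ x : ↥(Spec (CommRingCat.of A)), Order.coheight x = 1 → Scheme.ord f x = D x := by
  obtain ⟨j, hj, hjq, hrange⟩ := exists_affine_chart A n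
  obtain ⟨E, hE, hord, hEk⟩ := exists_map_functionField A j (CohB1.ProjSpace.toSpec n A)
  have hqH := toSpec_hyperplane hn hH
  have hDgen : D (genericPoint (Spec (CommRingCat.of A))) = 0 :=
    hD _ (by rw [coheight_genericPoint]; exact zero_ne_one)
  have hjH : ∀ w, j w ≠ H := fun w e => (hrange _).1 ⟨w, rfl⟩
    (by rw [e, hH]; exact Ideal.mem_span_singleton_self _)
  have hqj : ∀ w, CohB1.ProjSpace.toSpec n A (j w) = pr A n w := fun w => by
    rw [← Scheme.Hom.comp_apply, hjq]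
  have hEg : E g ≠ 0 := (map_ne_zero_iff _ hE.1).2 hg
  have hkey : ∀ w, Order.coheight w = 1 → Scheme.ord (E g) w = D (pr A n w) := fun w hw => by
    rw [hord, h _ (hjH w) (by rw [coheight_eq_of_isOpenImmersion j]; exact hw), hqj]
  obtain ⟨a, b, ha, hb, hab⟩ := exists_const_of_ord_horizontal_eq_zero (A := A) (n := n) (E g) hEg
    fun w hwH hw => by rw [hkey w hw, (pr_eq_genericPoint_iff w).2 hwH, hDgen]
  have hkap : ∀ c : A, c ≠ 0 → kap A (CohB1.ProjSpace.toSpec n A) c ≠ 0 := fun c hc h0 => by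
    have := congrArg E h0
    rw [hEk, map_zero, hjq, kap_pr] at this
    exact phi_ne_zero _ (fun e => hc (MvPolynomial.C_eq_zero.1 e)) this
  have hg' : g * kap A (CohB1.ProjSpace.toSpec n A) b = kap A (CohB1.ProjSpace.toSpec n A) a := by
    apply hE.1
    rw [map_mul, hEk, hEk, hjq, kap_pr, kap_pr]
    exact hab
  refine ⟨?_, ?_⟩
  · have h0 : ∀ c : A, c ≠ 0 → Scheme.ord (kap A (CohB1.ProjSpace.toSpec n A) c) H = 0 := fun c hc => by
      refine ord_kap_eq_zero A _ H ?_
      rw [hqH, genericPoint_eq_bot_of_affine]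
      exact hc
    have := congrArg (fun z => Scheme.ord z H) hg'
    rw [Scheme.ord_mul hg (hkap b hb), h0 b hb, h0 a ha, hH', hqH, hDgen] at this
    simpa using this
  · have ha' : phi (CommRingCat.of A) a ≠ 0 := phi_ne_zero _ ha
    have hb' : phi (CommRingCat.of A) b ≠ 0 := phi_ne_zero _ hb
    refine ⟨phi (CommRingCat.of A) a / phi (CommRingCat.of A) b, div_ne_zero ha' hb', fun x hx => ?_⟩
    haveI := hR1 x hx
    obtain ⟨w, hw, hwx, hordw⟩ := exists_vertical (n := n) x hx
    have hwpr : pr A n w = x := PrimeSpectrum.ext hwx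
    have hmul := congrArg (fun z => Scheme.ord z x)
      (div_mul_cancel₀ (phi (CommRingCat.of A) a) hb')
    rw [Scheme.ord_mul (div_ne_zero ha' hb') hb', ← hordw b hb, ← hordw a ha] at hmul
    have h2 := congrArg (fun z => Scheme.ord z w) hab
    rw [Scheme.ord_mul hEg (phi_ne_zero _ fun e => hb (MvPolynomial.C_eq_zero.1 e)), hkey w hw, hwpr] at h2
    linarith

theorem exists_unique_decomposition
    [IsIntegral (Spec (CommRingCat.of A))]
    (hR1 : ∀ x : ↥(Spec (CommRingCat.of A)), Order.coheight x = 1 →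
      IsDiscreteValuationRing ↑((Spec (CommRingCat.of A)).presheaf.stalk x))
    (hn : 1 ≤ n) (H : ↥(CohB1.ProjSpace n A))
    (hH : H.asHomogeneousIdeal.toIdeal = Ideal.span {(MvPolynomial.X 0 : MvPolynomial (Fin (n + 1)) A)})
    (D' : ↥(CohB1.ProjSpace n A) → ℤ) (hD' : ∀ y, Order.coheight y ≠ 1 → D' y = 0)
    (hfin : {y | D' y ≠ 0}.Finite) :
    ∃! d : ℤ, ∃ (D : ↥(Spec (CommRingCat.of A)) → ℤ) (g : ↑(CohB1.ProjSpace n A).functionField),
      (∀ x, Order.coheight x ≠ 1 → D x = 0) ∧ {x | D x ≠ 0}.Finite ∧ g ≠ 0 ∧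
      D' H = d + D (CohB1.ProjSpace.toSpec n A H) + Scheme.ord g H ∧
      ∀ y, y ≠ H → Order.coheight y = 1 →
        D' y = D (CohB1.ProjSpace.toSpec n A y) + Scheme.ord g y := by
  classical
  obtain ⟨j, hj, hjq, hrange⟩ := exists_affine_chart A n
  obtain ⟨E, hE, hord, -⟩ := exists_map_functionField A j (CohB1.ProjSpace.toSpec n A)
  have hqH := toSpec_hyperplane hn hH
  have hqj : ∀ w, CohB1.ProjSpace.toSpec n A (j w) = pr A n w := fun w => by
    rw [← Scheme.Hom.comp_apply, hjq]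
  have hjinj : Function.Injective (j : _ → _) := hj.base_open.injective
  obtain ⟨f, hf0, hf⟩ := exists_ord_eq_horizontal (A := A) (n := n) (fun w => D' (j w))
    (fun w hw => hD' _ (by rw [coheight_eq_of_isOpenImmersion j]; exact hw))
    (hfin.preimage hjinj.injOn)
  obtain ⟨g, rfl⟩ := hE.2 f
  have hg : g ≠ 0 := fun h => hf0 (by rw [h, map_zero])
  let V : ↥(Spec (CommRingCat.of A)) → ↥(Spec (PolyR A n)) → Prop := fun x w =>
    Order.coheight w = 1 ∧ pr A n w = x ∧ x ≠ genericPoint (Spec (CommRingCat.of A))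
  let D : ↥(Spec (CommRingCat.of A)) → ℤ := fun x =>
    if h : ∃ w, V x w then D' (j h.choose) - Scheme.ord (E g) h.choose else 0
  have hV : ∀ x w, V x w → Order.coheight x = 1 ∧ w.asIdeal = x.asIdeal.map MvPolynomial.C := by
    rintro x w ⟨hw, hwx, hx⟩
    haveI : w.asIdeal.IsPrime := w.isPrime
    have hne : w.asIdeal.comap (MvPolynomial.C : A →+* MvPolynomial (Fin n) A) ≠ ⊥ := fun e =>
      hx (hwx ▸ (pr_eq_genericPoint_iff w).2 e)
    obtain ⟨h1, h2⟩ := eq_map_of_comap_ne_bot' w.asIdeal ((idealHeight_eq_coheight _ w).trans hw) hne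
    have hx' : x.asIdeal = w.asIdeal.comap (MvPolynomial.C : A →+* MvPolynomial (Fin n) A) := by
      rw [← hwx]; rfl
    exact ⟨(idealHeight_eq_coheight _ x).symm.trans (by rw [hx']; exact h1), by rw [hx']; exact h2⟩
  have hDsupp : ∀ x, D x ≠ 0 → ∃ w, V x w ∧ (D' (j w) ≠ 0 ∨ Scheme.ord (E g) w ≠ 0) := by
    intro x hx
    by_cases h : ∃ w, V x w
    · refine ⟨h.choose, h.choose_spec, ?_⟩
      simp only [D, dif_pos h] at hx
      by_contra hc
      rw [not_or, not_not, not_not] at hc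
      rw [hc.1, hc.2] at hx
      exact hx (sub_zero 0)
    · exact absurd (dif_neg h) hx
  have hDgen : D (genericPoint (Spec (CommRingCat.of A))) = 0 := dif_neg fun ⟨w, hw⟩ => hw.2.2 rfl
  have hDc : ∀ x, Order.coheight x ≠ 1 → D x = 0 := fun x hx => by_contra fun h => by
    obtain ⟨w, hw, -⟩ := hDsupp x h
    exact hx (hV x w hw).1
  have hmain : ∀ w, Order.coheight w = 1 → D' (j w) = D (pr A n w) + Scheme.ord (E g) w := fun w hy => by
    by_cases hwH : w ∈ horizontal A n
    · rw [(pr_eq_genericPoint_iff w).2 hwH, hDgen, zero_add, hf w hwH hy]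
    · have hwV : V (pr A n w) w := ⟨hy, rfl, fun e => hwH ((pr_eq_genericPoint_iff w).1 e)⟩
      have h : ∃ z, V (pr A n w) z := ⟨w, hwV⟩
      have he : h.choose = w := PrimeSpectrum.ext (by
        rw [(hV _ _ h.choose_spec).2, (hV _ _ hwV).2])
      simp only [D, dif_pos h, he]
      ring
  refine ⟨D' H - Scheme.ord g H, ⟨D, g, hDc, ?_, hg, ?_, fun y hyH hy => ?_⟩, ?_⟩
  · refine (((hfin.preimage hjinj.injOn).union (finite_ord_support hf0)).image (fun w => pr A n w)).subset
      fun x hx => ?_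
    obtain ⟨w, hw, h'⟩ := hDsupp x hx
    exact ⟨w, h', hw.2.1⟩
  · rw [hqH, hDgen]; ring
  · obtain ⟨w, rfl⟩ : y ∈ Set.range j := (hrange y).2 fun h0 => hyH (eq_hyperplane hH hy h0)
    rw [coheight_eq_of_isOpenImmersion j] at hy
    rw [hqj, ← hord w g]
    exact hmain w hy
  · rintro d ⟨D₂, g₂, hD₂, -, hg₂, hH₂, hy₂⟩
    have hq : ∀ y, Scheme.ord (g / g₂) y = Scheme.ord g y - Scheme.ord g₂ y := fun y => by
      have := congrArg (fun z => Scheme.ord z y) (div_mul_cancel₀ g hg₂)
      rw [Scheme.ord_mul (div_ne_zero hg hg₂) hg₂] at this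
      linarith
    refine sub_eq_zero.1 (principal hR1 hn H hH (d - (D' H - Scheme.ord g H)) (fun x => D₂ x - D x)
      (fun x hx => by rw [hD₂ x hx, hDc x hx, sub_zero]) (g / g₂) (div_ne_zero hg hg₂) ?_ ?_).1
    · rw [hq, hqH, hDgen]
      rw [hqH] at hH₂
      linarith
    · intro y hyH hy
      rw [hq]
      have h2 := hy₂ y hyH hy
      obtain ⟨w, rfl⟩ : y ∈ Set.range j := (hrange y).2 fun h0 => hyH (eq_hyperplane hH hy h0)
      rw [coheight_eq_of_isOpenImmersion j] at hy
      rw [hqj] at h2 ⊢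
      have h1 := hmain w hy
      rw [← hord w g]
      linarith

end Groth.Agent.WDivPn5
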